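import Cfsg.Agent.Spor.G1365A1.D0

set_option autoImplicit false
set_option maxRecDepth 100000000
set_option Elab.async false

namespace Cfsg.Agent.Spor.G1365A1

theorem ok0 : Net.okb 1 n0 = true := by decide +kernel

theorem ok1 : Net.okb 1 n1 = true := by decide +kernel

theorem ok2 : Net.okb 1 n2 = true := by decide +kernel

theorem ok3 : Net.okb 1 n3 = true := by decide +kernel

theorem ok4 : Net.okb 1 n4 = true := by decide +kernel

theorem ok5 : Net.okb 1 n5 = true := by decide +kernel

theorem rel0 : T.rel 1 [1, 1] 0 1 = true := by decide +kernel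

theorem rel1 : T.rel 1 [2, 2] 0 1 = true := by decide +kernel

theorem rel2 : T.rel 1 [3, 3] 0 1 = true := by decide +kernel

theorem rel3 : T.rel 1 [4, 4] 0 1 = true := by decide +kernel

theorem rel4 : T.rel 1 [5, 5] 0 1 = true := by decide +kernel

theorem rel5 : T.rel 1 [6, 6] 0 1 = true := by decide +kernel

theorem rel6 : T.rel 1 [2, 1, 2, 1, 2, 1, 2, 1, 2, 1] 0 1 = true := by decide +kernel

theorem rel7 : T.rel 1 [3, 1, 3, 1] 0 1 = true := by decide +kernel

theorem rel8 : T.rel 1 [4, 1, 4, 1] 0 1 = true := by decide +kernel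

theorem rel9 : T.rel 1 [5, 1, 5, 1] 0 1 = true := by decide +kernel

theorem rel10 : T.rel 1 [6, 1, 6, 1] 0 1 = true := by decide +kernel

theorem rel11 : T.rel 1 [3, 2, 3, 2, 3, 2] 0 1 = true := by decide +kernel

theorem rel12 : T.rel 1 [4, 2, 4, 2] 0 1 = true := by decide +kernel

theorem rel13 : T.rel 1 [5, 2, 5, 2] 0 1 = true := by decide +kernel

theorem rel14 : T.rel 1 [6, 2, 6, 2, 6, 2] 0 1 = true := by decide +kernel

theorem rel15 : T.rel 1 [4, 3, 4, 3, 4, 3, 4, 3, 4, 3, 4, 3, 4, 3, 4, 3] 0 1 = true := by decide +kernel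

theorem rel16 : T.rel 1 [5, 3, 5, 3] 0 1 = true := by decide +kernel

theorem rel17 : T.rel 1 [6, 3, 6, 3] 0 1 = true := by decide +kernel

theorem rel18 : T.rel 1 [5, 4, 5, 4, 5, 4] 0 1 = true := by decide +kernel

theorem rel19 : T.rel 1 [6, 4, 6, 4] 0 1 = true := by decide +kernel

theorem rel20 : T.rel 1 [6, 5, 6, 5] 0 1 = true := by decide +kernel

theorem rel21 : T.rel 1 [3, 4, 3, 4, 3, 4, 3, 4, 1] 0 1 = true := by decide +kernel

theorem rel22 : T.rel 1 [6, 3, 2, 1, 6, 3, 2, 1, 6, 3, 2, 1, 6, 3, 2, 1, 6, 3, 2, 1] 0 1 = true := by decide +kernel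

theorem rel23 : T.rel 1 [5, 4, 3, 4, 3, 2, 4, 3, 4, 3, 2, 4, 3, 4, 3, 2, 4, 3, 4, 3, 2, 4, 3, 4, 3, 2, 5, 4, 3, 4, 3, 2, 4, 3, 4, 3, 2, 4, 3, 4, 3, 2, 4, 3, 4, 3, 2, 4, 3, 4, 3, 2, 5, 4, 3, 4, 3, 2, 4, 3, 4, 3, 2, 4, 3, 4, 3, 2, 4, 3, 4, 3, 2, 4, 3, 4, 3, 2] 0 1 = true := by decide +kernel

theorem rel24 : T.rel 1 [2, 1, 2, 1] 0 1 = true := by decide +kernel

theorem rel25 : T.rel 1 [3, 2, 3, 2] 0 1 = true := by decide +kernel

theorem rel26 : T.rel 1 [6, 2, 6, 2] 0 1 = true := by decide +kernel

theorem rel27 : T.rel 1 [4, 3, 4, 3] 0 1 = true := by decide +kernel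

theorem rel28 : T.rel 1 [5, 4, 5, 4] 0 1 = true := by decide +kernel

theorem hcov : T.treeCov (ones 1) L 1 = true := by decide +kernel

theorem hg : lall (fun z => band (memL L z) (band (sub (ones 1) (T.let z).cl) (T.closed (ones 1) z))) gs = true := by decide +kernel

theorem hivk : ivOk (2 * 6) EX IV = true := by decide +kernel

theorem hrt : RT.ok (2 * 6) EX RL = true := by decide +kernel

theorem hdefs : defs F 14 = true := by decide +kernel

noncomputable def st0_l : List Nat := [nat_lit 0x80000100000003, nat_lit 0x48000740000200003000048000740000200003000048000740a, nat_lit 0x80000f80000403, nat_lit 0x1000007402, nat_lit 0xa0000200000003, nat_lit 0x40001180009003, nat_lit 0x128000880000a000270001280008806, nat_lit 0xb0001480000003, nat_lit 0x1500001002, nat_lit 0xc0000300000003, nat_lit 0x6000160000b803, nat_lit 0xbc0005a00007000188000bc0005a00007000068000c009, nat_lit 0x7000190000bc03, nat_lit 0x8000d402, nat_lit 0xe0001b80003c03, nat_lit 0x1c0000380006c0000f0001c0000380006c0000f0001c0000380a, nat_lit 0x78000ec02,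 nat_lit 0x100001e80004403, nat_lit 0x1f00004000078000110001f00004006, nat_lit 0x880010402, nat_lit 0x120001e80004c03, nat_lit 0x120002180004c03, nat_lit 0x160000a00004803, nat_lit 0xb80012400026000150000b80012406, nat_lit 0x160002580004c03, nat_lit 0x2600012402, nat_lit 0x2780004c0008e00012000218000f400026000470000900010c0007a0001300023800048000860003d0000980011c00024000430001e80004c0008e00012000218000f40009c000120002180004c0008e000450000900010c00026000470002280004800086000130002380011400024000430000980011c0008a000120002180004c0008e000450002780004c0008e00012000218000f400026000470000900010c0007a0001300023800048000860003d0000980011c00024000430001e80004c0008e00012000218000f44e, nat_lit 0x980014402, nat_lit 0x180002980006403, nat_lit 0x2a000060000a4000190002a00006006, nat_lit 0xc80015c02, nat_lit 0x1a0001e80006c03, nat_lit 0x2d000068000780001b0002d00006806, nat_lit 0xd80017402]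
theorem st0 : band (steps F IV RT base st0_l 14) (Nat.beq (Nat.add 14 (llen st0_l)) 48) = true := by decide +kernel

theorem ep0a : T.treePath [] (Nat.shiftLeft 1 0) 1 = true := by decide +kernel

theorem ep0b : T.treePath [] (Nat.shiftLeft 1 0) 1 = true := by decide +kernel

theorem ep0c : band (lall (fun z => Nat.ble z 255) ([] ++ 1 :: [])) (concl F IV 48 0xd801 (encA ([] ++ 1 :: []) 0)) = true := by decide +kernel

theorem ep0d : band (Rule.ok (2 * 6) EX [] ⟨lapp [] [], [], 0, false⟩) (band (lall (memL L) []) (lall (memL L) [])) = true := by decide +kernel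

theorem cov1 : T.cover 1 [(Nat.shiftLeft 1 0)] = true := by decide +kernel

theorem tl1 : Nat.beq (T.let 1).tt 0 = true := by decide +kernel

theorem ep1a : T.treePath [] (Nat.shiftLeft 1 0) 1 = true := by decide +kernel

theorem ep1b : T.treePath [] (Nat.shiftLeft 1 0) 1 = true := by decide +kernel

theorem ep1c : band (lall (fun z => Nat.ble z 255) ([] ++ 2 :: [])) (concl F IV 48 0xf001 (encA ([] ++ 2 :: []) 0)) = true := by decide +kernel

theorem ep1d : band (Rule.ok (2 * 6) EX [] ⟨lapp [] [], [], 0, false⟩) (band (lall (memL L) []) (lall (memL L) [])) = true := by decide +kernel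

theorem cov2 : T.cover 2 [(Nat.shiftLeft 1 0)] = true := by decide +kernel

theorem tl2 : Nat.beq (T.let 2).tt 0 = true := by decide +kernel

theorem ep2a : T.treePath [] (Nat.shiftLeft 1 0) 1 = true := by decide +kernel

theorem ep2b : T.treePath [] (Nat.shiftLeft 1 0) 1 = true := by decide +kernel

theorem ep2c : band (lall (fun z => Nat.ble z 255) ([] ++ 3 :: [])) (concl F IV 48 0x10801 (encA ([] ++ 3 :: []) 0)) = true := by decide +kernel

theorem ep2d : band (Rule.ok (2 * 6) EX [] ⟨lapp [] [], [], 0, false⟩) (band (lall (memL L) []) (lall (memL L) [])) = true := by decide +kernel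

theorem cov3 : T.cover 3 [(Nat.shiftLeft 1 0)] = true := by decide +kernel

theorem tl3 : Nat.beq (T.let 3).tt 0 = true := by decide +kernel

theorem ep3a : T.treePath [] (Nat.shiftLeft 1 0) 1 = true := by decide +kernel

theorem ep3b : T.treePath [] (Nat.shiftLeft 1 0) 1 = true := by decide +kernel

theorem ep3c : band (lall (fun z => Nat.ble z 255) ([] ++ 4 :: [])) (concl F IV 48 0x14801 (encA ([] ++ 4 :: []) 0)) = true := by decide +kernel

theorem ep3d : band (Rule.ok (2 * 6) EX [] ⟨lapp [] [], [], 0, false⟩) (band (lall (memL L) []) (lall (memL L) [])) = true := by decide +kernel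

theorem cov4 : T.cover 4 [(Nat.shiftLeft 1 0)] = true := by decide +kernel

theorem tl4 : Nat.beq (T.let 4).tt 0 = true := by decide +kernel

theorem ep4a : T.treePath [] (Nat.shiftLeft 1 0) 1 = true := by decide +kernel

theorem ep4b : T.treePath [] (Nat.shiftLeft 1 0) 1 = true := by decide +kernel

theorem ep4c : band (lall (fun z => Nat.ble z 255) ([] ++ 5 :: [])) (concl F IV 48 0x16001 (encA ([] ++ 5 :: []) 0)) = true := by decide +kernel

theorem ep4d : band (Rule.ok (2 * 6) EX [] ⟨lapp [] [], [], 0, false⟩) (band (lall (memL L) []) (lall (memL L) [])) = true := by decide +kernel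

theorem cov5 : T.cover 5 [(Nat.shiftLeft 1 0)] = true := by decide +kernel

theorem tl5 : Nat.beq (T.let 5).tt 0 = true := by decide +kernel

theorem ep5a : T.treePath [] (Nat.shiftLeft 1 0) 1 = true := by decide +kernel

theorem ep5b : T.treePath [] (Nat.shiftLeft 1 0) 1 = true := by decide +kernel

theorem ep5c : band (lall (fun z => Nat.ble z 255) ([] ++ 6 :: [])) (concl F IV 48 0x17801 (encA ([] ++ 6 :: []) 0)) = true := by decide +kernel

theorem ep5d : band (Rule.ok (2 * 6) EX [] ⟨lapp [] [], [], 0, false⟩) (band (lall (memL L) []) (lall (memL L) [])) = true := by decide +kernel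

theorem cov6 : T.cover 6 [(Nat.shiftLeft 1 0)] = true := by decide +kernel

theorem tl6 : Nat.beq (T.let 6).tt 0 = true := by decide +kernel

end Cfsg.Agent.Spor.G1365A1
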