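import Cfsg.Agent.Spor.Chk

set_option autoImplicit false
set_option maxRecDepth 100000000
set_option Elab.async false
noncomputable section

namespace Cfsg.Agent.Spor.G1365A1

def n0 : Net := Net.nil

def n1 : Net := Net.nil

def n2 : Net := Net.nil

def n3 : Net := Net.nil

def n4 : Net := Net.nil

def n5 : Net := Net.nil

def ip1 : List Nat := []
def l1 : Let := ⟨0, false, 0x1, 0x0, [0x0]⟩

def ip2 : List Nat := []
def l2 : Let := ⟨1, false, 0x1, 0x0, [0x0]⟩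

def ip3 : List Nat := []
def l3 : Let := ⟨2, false, 0x1, 0x0, [0x0]⟩

def ip4 : List Nat := []
def l4 : Let := ⟨3, false, 0x1, 0x0, [0x0]⟩

def ip5 : List Nat := []
def l5 : Let := ⟨4, false, 0x1, 0x0, [0x0]⟩

def ip6 : List Nat := []
def l6 : Let := ⟨5, false, 0x1, 0x0, [0x0]⟩

def F : Nat := nat_lit 0x60000000000000000e0000e020000e00000050000000000000000d0000d040000d00000040000000000000000a00000050000a0000a000000c00000000000b00000050000c0000a030000a0000a020000a0000003000000000000000090000902000090000002000000000000000080000801000080000001000000000000000010000400000070000703000040000004000070000103000000000000000030000100000060000602000030000003000060000002000010000100000050000000000020000002000050000e06000000000d05000000000c040000b0000b050000a0000a0400000000090300000000080200000000070100004000060100003000050100002000040400001000030300001000020200001000010100000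

def rt0_11 : RTree := RTree.node 0x606 ⟨[6, 6], [], 33, false⟩ (RTree.node 0x303 ⟨[3, 3], [], 33, false⟩ (RTree.node 0x202 ⟨[2, 2], [], 33, false⟩ (RTree.node 0x101 ⟨[1, 1], [], 33, false⟩ (RTree.leaf) (RTree.leaf)) (RTree.leaf)) (RTree.node 0x505 ⟨[5, 5], [], 33, false⟩ (RTree.node 0x404 ⟨[4, 4], [], 33, false⟩ (RTree.leaf) (RTree.leaf)) (RTree.leaf))) (RTree.node 0x2030203 ⟨[2, 3, 2, 3], [], 23, false⟩ (RTree.node 0x2010201 ⟨[2, 1, 2, 1], [], 18, true⟩ (RTree.node 0x1020102 ⟨[1, 2, 1, 2], [], 18, false⟩ (RTree.leaf) (RTree.leaf)) (RTree.leaf)) (RTree.node 0x2060206 ⟨[2, 6, 2, 6], [], 26, false⟩ (RTree.node 0x2040204 ⟨[2, 4, 2, 4], [], 6, false⟩ (RTree.leaf) (RTree.leaf)) (RTree.leaf)))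
def rt12_23 : RTree := RTree.node 0x30203020302 ⟨[3, 2, 3, 2, 3, 2], [], 5, true⟩ (RTree.node 0x4050405 ⟨[4, 5, 4, 5], [], 30, false⟩ (RTree.node 0x4010401 ⟨[4, 1, 4, 1], [], 2, true⟩ (RTree.node 0x3040304 ⟨[3, 4, 3, 4], [], 27, false⟩ (RTree.leaf) (RTree.leaf)) (RTree.leaf)) (RTree.node 0x20302030203 ⟨[2, 3, 2, 3, 2, 3], [], 5, false⟩ (RTree.node 0x5040504 ⟨[5, 4, 5, 4], [], 30, true⟩ (RTree.leaf) (RTree.leaf)) (RTree.leaf))) (RTree.node 0x30104030403040304 ⟨[3, 1, 4, 3, 4, 3, 4, 3, 4], [4], 15, false⟩ (RTree.node 0x60206020602 ⟨[6, 2, 6, 2, 6, 2], [], 8, true⟩ (RTree.node 0x50405040504 ⟨[5, 4, 5, 4, 5, 4], [], 12, true⟩ (RTree.leaf) (RTree.leaf)) (RTree.leaf)) (RTree.node 0x20304030402030403040203040304020304030402030403040502030403040203040304020304030402030403040203040304050203040304020304030402030403040203040304020304030405 ⟨[2, 3, 4, 3, 4, 2, 3, 4, 3, 4, 2, 3,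 4, 3, 4, 2, 3, 4, 3, 4, 2, 3, 4, 3, 4, 5, 2, 3, 4, 3, 4, 2, 3, 4, 3, 4, 2, 3, 4, 3, 4, 2, 3, 4, 3, 4, 2, 3, 4, 3, 4, 5, 2, 3, 4, 3, 4, 2, 3, 4, 3, 4, 2, 3, 4, 3, 4, 2, 3, 4, 3, 4, 2, 3, 4, 3, 4, 5], [], 17, false⟩ (RTree.node 0x2010201020102010201 ⟨[2, 1, 2, 1, 2, 1, 2, 1, 2, 1], [], 0, true⟩ (RTree.leaf) (RTree.leaf)) (RTree.leaf)))
def rt0_23 : RTree := RTree.node 0x3010301 ⟨[3, 1, 3, 1], [], 1, true⟩ (rt0_11) (rt12_23)
def RT : RTree := rt0_23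

def NT : List Net := [n0, n1, n2, n3, n4, n5]
def LT : List Let := [⟨0, false, 0, 0, []⟩, l1, l2, l3, l4, l5, l6]
def T : Tab := ⟨NT, LT⟩
def EX : List (List Nat) := [[], [0], [2], [4], [6], [8], [10]]
def RL : List (List Nat) := [[0, 2, 0, 2, 0, 2, 0, 2, 0, 2], [0, 4, 0, 4], [0, 6, 0, 6], [0, 8, 0, 8], [0, 10, 0, 10], [2, 4, 2, 4, 2, 4], [2, 6, 2, 6], [2, 8, 2, 8], [2, 10, 2, 10, 2, 10], [4, 6, 4, 6, 4, 6, 4, 6, 4, 6, 4, 6, 4, 6, 4, 6], [4, 8, 4, 8], [4, 10, 4, 10], [6, 8, 6, 8, 6, 8], [6, 10, 6, 10], [8, 10, 8, 10], [0, 6, 4, 6, 4, 6, 4, 6, 4], [0, 2, 4, 10, 0, 2, 4, 10, 0, 2, 4, 10, 0, 2, 4, 10, 0, 2, 4, 10], [2, 4, 6, 4, 6, 2, 4, 6, 4, 6, 2, 4, 6, 4, 6, 2, 4, 6, 4, 6, 2, 4, 6, 4, 6, 8, 2, 4, 6, 4, 6, 2, 4, 6, 4, 6, 2, 4, 6, 4, 6, 2, 4, 6, 4, 6, 2, 4, 6, 4, 6, 8, 2, 4, 6, 4, 6, 2, 4, 6, 4, 6, 2, 4, 6, 4, 6, 2, 4, 6, 4, 6, 2, 4, 6, 4, 6, 8], [0, 2, 0, 2], [0, 4,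 0, 4], [0, 6, 0, 6], [0, 8, 0, 8], [0, 10, 0, 10], [2, 4, 2, 4], [2, 6, 2, 6], [2, 8, 2, 8], [2, 10, 2, 10], [4, 6, 4, 6], [4, 8, 4, 8], [4, 10, 4, 10], [6, 8, 6, 8], [6, 10, 6, 10], [8, 10, 8, 10]]
def XL : List (List Nat) := []
def BW : List (List Nat) := []
def IV : Nat := 0x6050403020100
def L : List Nat := [1, 2, 3, 4, 5, 6]
def gs : List Nat := [1, 2, 3, 4, 5, 6]
def base : List Nat := []

end Cfsg.Agent.Spor.G1365A1
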